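import Groth.Prelude.Def_Lef
import Groth.Agent.KosExt.Hom
import Groth.Agent.LefConn.Basic
import Groth.Agent.ResDesc.Dual

/-!
Sections of finite locally free modules from the Lefschetz bijectivity on all duals.
-/

universe u

open CategoryTheory CategoryTheory.Limits AlgebraicGeometry TopologicalSpace Opposite

set_option autoImplicit false
set_option backward.isDefEq.respectTransparency false
set_option backward.isDefEq.respectTransparency.types false
set_option linter.style.haveILetI false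

noncomputable section

namespace Groth.Agent.LefFEt

open Groth.Agent.QC Groth.Agent.ResDesc
open Groth.Agent.WeakAssLib (mgerm mgerm_smul mgerm_res)

variable {X : Scheme.{u}} {E : X.Modules}

/-- Congruence of sections modulo the sections of an ideal times the module. -/
abbrev Cong (J : X.IdealSheafData) (U : X.affineOpens) (m : Γ(E, U.1)) : Prop :=
  m ∈ (J.ideal U • ⊤ : Submodule Γ(X, U.1) Γ(E, U.1))

lemma toSub_eq_zero_iff (J : X.IdealSheafData) (U : X.affineOpens) (r : Γ(X, U.1)) :
    (ClSub.toSubscheme J).app U.1 r = 0 ↔ r ∈ J.ideal U := by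
  rw [← J.ker_subschemeι_app U]
  rfl

lemma toSub_quotMap {I J : X.IdealSheafData} (h : I ≤ J) :
    ClSub.toSubscheme I ≫ Lef.quotMap h = ClSub.toSubscheme J := by
  refine LefConn.ev_ext ?_
  refine (LefConn.quotMap_app h _).trans ?_
  show (Scheme.IdealSheafData.inclusion h).appTop (I.subschemeι.appTop (1 : Γ(X, ⊤))) =
    J.subschemeι.appTop (1 : Γ(X, ⊤))
  rw [← ConcreteCategory.comp_apply, ← Scheme.Hom.comp_appTop,
    Scheme.IdealSheafData.inclusion_subschemeι]

lemma toSub_quotMap_app {I J : X.IdealSheafData} (h : I ≤ J) (U : X.Opens) (r : Γ(Coh.structureModule X, U)) :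
    (Lef.quotMap h).app U ((ClSub.toSubscheme I).app U r) = (ClSub.toSubscheme J).app U r := by
  rw [← ConcreteCategory.comp_apply, ← Scheme.Modules.Hom.comp_app, toSub_quotMap]

/-- Evaluation of a section of the dual on a section. -/
lemma existsUnique_pair {U : X.Opens} (a : Γ(E, U)) (d : Γ(RefHull.dual E, U)) :
    ∃! P : Γ(Coh.structureModule X, U), ∀ (x : X) (hx : x ∈ U),
      mgerm (Coh.structureModule X) hx P = d.1 ⟨x, hx⟩ (mgerm E hx a) := by
  have huniq : ∀ P Q : Γ(Coh.structureModule X, U),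
      (∀ (x : X) (hx : x ∈ U), mgerm (Coh.structureModule X) hx P = mgerm (Coh.structureModule X) hx Q) →
      P = Q := fun P Q h => TopCat.Presheaf.section_ext (abSheaf (Coh.structureModule X)) U P Q h
  choose W hxW j n hn using fun x : U => RefHull.isLocSect_of_mem d U (𝟙 U) a x
  obtain ⟨P, hP, -⟩ := (abSheaf (Coh.structureModule X)).existsUnique_gluing' W U j
    (fun x hx => Opens.mem_iSup.mpr ⟨⟨x, hx⟩, hxW _⟩) n (fun x x' => by
      refine TopCat.Presheaf.section_ext (abSheaf (Coh.structureModule X)) _ _ _ fun y hy => ?_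
      show mgerm (Coh.structureModule X) hy (res _ inf_le_left (n x)) =
        mgerm (Coh.structureModule X) hy (res _ inf_le_right (n x'))
      rw [mgerm_res, mgerm_res]
      exact (hn x ⟨y, hy.1⟩).symm.trans (hn x' ⟨y, hy.2⟩))
  have hPx : ∀ (x : X) (hx : x ∈ U), mgerm (Coh.structureModule X) hx P = d.1 ⟨x, hx⟩ (mgerm E hx a) := by
    intro x hx
    refine Eq.trans ?_ (hn ⟨x, hx⟩ ⟨x, hxW _⟩).symm
    rw [← hP ⟨x, hx⟩]
    exact (TopCat.Presheaf.germ_res_apply (Coh.structureModule X).presheaf (j _) x (hxW _) P).symm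
  exact ⟨P, hPx, fun Q hQ => huniq _ _ fun x hx => (hQ x hx).trans (hPx x hx).symm⟩

/-- Evaluation of a section of the dual on a section. -/
def pair {U : X.Opens} (a : Γ(E, U)) (d : Γ(RefHull.dual E, U)) : Γ(X, U) :=
  (existsUnique_pair a d).exists.choose

lemma pair_germ {U : X.Opens} (a : Γ(E, U)) (d : Γ(RefHull.dual E, U)) (x : X) (hx : x ∈ U) :
    mgerm (Coh.structureModule X) hx (pair a d) = d.1 ⟨x, hx⟩ (mgerm E hx a) :=
  (existsUnique_pair a d).exists.choose_spec x hx

lemma pair_eq {U : X.Opens} (a : Γ(E, U)) (d : Γ(RefHull.dual E, U)) (P : Γ(Coh.structureModule X, U))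
    (h : ∀ (x : X) (hx : x ∈ U), mgerm (Coh.structureModule X) hx P = d.1 ⟨x, hx⟩ (mgerm E hx a)) :
    pair a d = P :=
  (existsUnique_pair a d).unique (pair_germ a d) h

lemma res_pair {U V : X.Opens} (h : V ≤ U) (a : Γ(E, U)) (d : Γ(RefHull.dual E, U)) :
    resO X h (pair a d) = pair (res E h a) (res (RefHull.dual E) h d) := by
  refine (pair_eq _ _ _ fun x hx => ?_).symm
  show mgerm (Coh.structureModule X) hx (res (Coh.structureModule X) h _) = _
  rw [mgerm_res, pair_germ, mgerm_res]
  rfl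

lemma pair_add_left {U : X.Opens} (a b : Γ(E, U)) (d : Γ(RefHull.dual E, U)) :
    pair (a + b) d = pair a d + pair b d := by
  refine pair_eq _ _ (pair a d + pair b d) fun x hx => ?_
  refine (map_add (mgerm (Coh.structureModule X) hx) _ _).trans ?_
  rw [pair_germ, pair_germ, map_add, map_add]

lemma pair_smul_left {U : X.Opens} (r : Γ(X, U)) (a : Γ(E, U)) (d : Γ(RefHull.dual E, U)) :
    pair (r • a) d = r * pair a d := by
  refine pair_eq _ _ (r • (show Γ(Coh.structureModule X, U) from pair a d)) fun x hx => ?_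
  rw [mgerm_smul, pair_germ, mgerm_smul, map_smul]

lemma pair_add_right {U : X.Opens} (a : Γ(E, U)) (d d' : Γ(RefHull.dual E, U)) :
    pair a (d + d') = pair a d + pair a d' := by
  refine pair_eq _ _ (pair a d + pair a d') fun x hx => ?_
  refine (map_add (mgerm (Coh.structureModule X) hx) _ _).trans ?_
  rw [pair_germ, pair_germ]
  rfl

lemma pair_smul_right {U : X.Opens} (r : Γ(X, U)) (a : Γ(E, U)) (d : Γ(RefHull.dual E, U)) :
    pair a (r • d) = r * pair a d := by
  refine pair_eq _ _ (r • (show Γ(Coh.structureModule X, U) from pair a d)) fun x hx => ?_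
  rw [mgerm_smul, pair_germ]
  rfl

/-- `a` as a linear form on the dual. -/
def pairR {U : X.Opens} (a : Γ(E, U)) : Γ(RefHull.dual E, U) →ₗ[Γ(X, U)] Γ(Coh.structureModule X, U) where
  toFun d := pair a d
  map_add' := pair_add_right a
  map_smul' r d := pair_smul_right r a d

/-- `d` as a linear form. -/
def pairL {U : X.Opens} (d : Γ(RefHull.dual E, U)) : Γ(E, U) →ₗ[Γ(X, U)] Γ(X, U) where
  toFun a := pair a d
  map_add' a b := pair_add_left a b d
  map_smul' r a := pair_smul_left r a d

lemma pair_sub_left {U : X.Opens} (a b : Γ(E, U)) (d : Γ(RefHull.dual E, U)) :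
    pair (a - b) d = pair a d - pair b d := map_sub (pairL d) a b

lemma pair_mem (J : X.IdealSheafData) (U : X.affineOpens) {m : Γ(E, U.1)} (hm : Cong J U m)
    (d : Γ(RefHull.dual E, U.1)) : pair m d ∈ J.ideal U := by
  refine Submodule.smul_induction_on hm (fun r hr z _ => ?_) (fun y z hy hz => ?_)
  · rw [pair_smul_left]; exact Ideal.mul_mem_right _ _ hr
  · rw [pair_add_left]; exact add_mem hy hz

variable {n : ℕ} {U : X.Opens} {e : Fin n → Γ(E, U)}

lemma pair_frame (he : TMul.IsFrame e) {V : X.Opens} (h : V ≤ U) (i j : Fin n) :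
    pair (res E h (e i)) (res (RefHull.dual E) h (coord he j)) = if i = j then 1 else 0 := by
  classical
  refine pair_eq _ _ _ fun x hx => ?_
  rw [mgerm_res]
  refine Eq.trans ?_ (coord_germ he j i (h hx)).symm
  by_cases hij : i = j
  · subst hij
    rw [if_pos rfl, if_pos rfl]
    show mgerm (Coh.structureModule X) hx (show Γ(Coh.structureModule X, V) from (1 : Γ(X, V))) = _
    rw [show (show Γ(Coh.structureModule X, V) from (1 : Γ(X, V))) =
      res (Coh.structureModule X) (le_top : V ≤ ⊤) (show Γ(Coh.structureModule X, ⊤) from (1 : Γ(X, ⊤))) from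
        (map_one (resO X (le_top : V ≤ ⊤))).symm, mgerm_res]
  · rw [if_neg hij, if_neg hij]
    exact map_zero _

lemma pair_comb (he : TMul.IsFrame e) {V : X.Opens} (h : V ≤ U) (c : Fin n → Γ(X, V)) (j : Fin n) :
    pair (∑ i, c i • res E h (e i)) (res (RefHull.dual E) h (coord he j)) = c j := by
  classical
  show pairL _ (∑ i, c i • res E h (e i)) = _
  rw [map_sum]
  simp only [map_smul]
  show ∑ i, c i • pair (res E h (e i)) _ = _
  simp [pair_frame he h]

lemma eq_of_pair (he : TMul.IsFrame e) {V : X.Opens} (h : V ≤ U) {a b : Γ(E, V)}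
    (hab : ∀ j, pair a (res (RefHull.dual E) h (coord he j)) = pair b (res (RefHull.dual E) h (coord he j))) :
    a = b := by
  obtain ⟨c, rfl⟩ := he.comb_surjective h a
  obtain ⟨c', rfl⟩ := he.comb_surjective h b
  have : c = c' := funext fun j => by simpa only [pair_comb he h] using hab j
  rw [this]

lemma cong_of_pair (he : TMul.IsFrame e) (J : X.IdealSheafData) (V : X.affineOpens) (h : V.1 ≤ U)
    {a : Γ(E, V.1)} (ha : ∀ j, pair a (res (RefHull.dual E) h (coord he j)) ∈ J.ideal V) : Cong J V a := by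
  obtain ⟨c, rfl⟩ := he.comb_surjective h a
  refine Submodule.sum_mem _ fun i _ => Submodule.smul_mem_smul ?_ Submodule.mem_top
  simpa only [pair_comb he h] using ha i

/-- An affine open inside a frame around every point. -/
lemma exists_affine_frame (hE : FlatMod.IsFinLocFree E) {O : X.Opens} {x : X} (hx : x ∈ O) :
    ∃ (V : X.affineOpens) (U : X.Opens) (n : ℕ) (e : Fin n → Γ(E, U)),
      x ∈ V.1 ∧ V.1 ≤ O ∧ V.1 ≤ U ∧ TMul.IsFrame e := by
  obtain ⟨U, n, e, hxU, he⟩ := TMul.exists_isFrame hE x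
  obtain ⟨V, hxV, hV⟩ := KosExt.exists_affine_le (show x ∈ O ⊓ U from ⟨hx, hxU⟩)
  exact ⟨V, U, n, e, hxV, hV.trans inf_le_left, hV.trans inf_le_right, he⟩

variable (J : X.IdealSheafData)

/-- A section congruent to zero to all orders vanishes. -/
theorem sections_injective (hE : FlatMod.IsFinLocFree E)
    (hJ : Lef.HomToFormalBijective J (RefHull.dual E)) (a : Γ(E, ⊤))
    (ha : ∀ (m : ℕ) (U : X.affineOpens), Cong (J ^ (m + 1)) U (res E le_top a)) : a = 0 := by
  obtain ⟨φ, hφ⟩ := KosExt.exists_hom_affine (RefHull.dual E) (Coh.structureModule X)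
    (fun U => pairR (res E (le_top : U.1 ≤ ⊤) a)) (fun U V h d => by
      show resO X h (pair _ d) = pair _ _
      rw [res_pair, res_res])
  have h0 : φ = 0 := hJ.1 φ 0 fun m => KosExt.hom_ext_affine fun U d => by
    show (ClSub.toSubscheme (J ^ (m + 1))).app U.1 (φ.app U.1 d) = (ClSub.toSubscheme (J ^ (m + 1))).app U.1 0
    rw [map_zero, hφ]
    exact (toSub_eq_zero_iff _ U _).mpr (pair_mem _ U (ha m U) d)
  refine section_eq_of_locally fun x _ => ?_
  obtain ⟨V, U, n, e, hxV, -, hVU, he⟩ := exists_affine_frame hE (O := ⊤) (x := x) trivial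
  refine ⟨V.1, le_top, hxV, ?_⟩
  rw [map_zero]
  refine eq_of_pair he hVU fun j => ?_
  have h2 := hφ V (res (RefHull.dual E) hVU (coord he j))
  rw [h0] at h2
  exact (show pair _ _ = (0 : Γ(X, V.1)) from h2.symm).trans (map_zero (pairL _)).symm

/-- Compatible local sections to all orders come from a section. -/
theorem sections_surjective (hE : FlatMod.IsFinLocFree E)
    (hJ : Lef.HomToFormalBijective J (RefHull.dual E))
    (t : ∀ (m : ℕ) (U : X.affineOpens), Γ(E, U.1))
    (hres : ∀ (m : ℕ) (U V : X.affineOpens) (h : V.1 ≤ U.1), Cong (J ^ (m + 1)) V (res E h (t m U) - t m V))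
    (hstep : ∀ (m : ℕ) (U : X.affineOpens), Cong (J ^ (m + 1)) U (t (m + 1) U - t m U)) :
    ∃ a : Γ(E, ⊤), ∀ (m : ℕ) (U : X.affineOpens) (x : X), x ∈ U.1 →
      ∃ (V : X.affineOpens) (h : V.1 ≤ U.1), x ∈ V.1 ∧ Cong (J ^ (m + 1)) V (res E le_top a - res E h (t m U)) := by
  -- the family of functionals
  choose y hy using fun m => KosExt.exists_hom_affine (RefHull.dual E) (ClSub.quotMod (J ^ (m + 1)))
    (fun U => (appₗ (ClSub.toSubscheme (J ^ (m + 1))) U.1) ∘ₗ pairR (t m U)) (fun U V h d => by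
      show res _ h ((ClSub.toSubscheme (J ^ (m + 1))).app U.1 (pair (t m U) d)) =
        (ClSub.toSubscheme (J ^ (m + 1))).app V.1 (pair (t m V) (res _ h d))
      rw [app_res, ← sub_eq_zero, ← map_sub, toSub_eq_zero_iff]
      show resO X h (pair (t m U) d) - _ ∈ _
      rw [res_pair, ← pair_sub_left]
      exact pair_mem _ V (hres m U V h) _)
  obtain ⟨φ, hφ⟩ := hJ.2 y fun m => KosExt.hom_ext_affine fun U d => by
    rw [Scheme.Modules.Hom.comp_app, ConcreteCategory.comp_apply, hy, hy]
    simp only [LinearMap.comp_apply]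
    refine (toSub_quotMap_app (Lef.pow_succ_le J m) U.1 (pairR (t (m + 1) U) d)).trans ?_
    refine sub_eq_zero.mp ((map_sub _ _ _).symm.trans ((toSub_eq_zero_iff _ U _).mpr ?_))
    exact (pair_sub_left (t (m + 1) U) (t m U) d) ▸ pair_mem _ U (hstep m U) d
  -- gluing a section
  let I := {V : X.affineOpens // ∃ (U : X.Opens) (n : ℕ) (e : Fin n → Γ(E, U)), V.1 ≤ U ∧ TMul.IsFrame e}
  choose fU fn fe fh ffr using fun i : I => i.2
  let aI : ∀ i : I, Γ(E, i.1.1) := fun i =>
    ∑ l, (show Γ(X, i.1.1) from φ.app i.1.1 (res (RefHull.dual E) (fh i) (coord (ffr i) l))) •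
      res E (fh i) (fe i l)
  have haI : ∀ (i : I) (W : X.Opens) (h : W ≤ i.1.1) (d : Γ(RefHull.dual E, W)),
      pair (res E h (aI i)) d = φ.app W d := by
    intro i W h d
    have hc : ∀ j, pair (res E h (aI i)) (res (RefHull.dual E) (h.trans (fh i)) (coord (ffr i) j)) =
        φ.app W (res (RefHull.dual E) (h.trans (fh i)) (coord (ffr i) j)) := by
      intro j
      rw [← res_res (RefHull.dual E) h (fh i), ← res_pair, pair_comb (ffr i) (fh i)]
      exact app_res φ h _
    obtain ⟨c, rfl⟩ := (isFrame_coord hE (ffr i)).comb_surjective (h.trans (fh i)) d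
    refine Eq.trans (map_sum (pairR (res E h (aI i))) _ _) (Eq.trans ?_ (map_sum _ _ _).symm)
    refine Finset.sum_congr rfl fun j _ => ?_
    exact ((LinearMap.map_smul (pairR (res E h (aI i))) (c j) _).trans
      (congrArg (fun z : Γ(Coh.structureModule X, W) => c j • z) (hc j))).trans
      (Scheme.Modules.Hom.app_smul φ (c j) _).symm
  have hcov : (⊤ : X.Opens) ≤ iSup fun i : I => i.1.1 := fun x _ => by
    obtain ⟨V, U, n, e, hxV, -, hVU, he⟩ := exists_affine_frame hE (O := ⊤) (x := x) trivial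
    exact Opens.mem_iSup.mpr ⟨⟨V, U, n, e, hVU, he⟩, hxV⟩
  obtain ⟨a, ha, -⟩ := (abSheaf E).existsUnique_gluing' (fun i : I => i.1.1) ⊤
    (fun i => homOfLE le_top) hcov aI (fun i i' => by
      refine eq_of_pair (ffr i) (inf_le_left.trans (fh i)) fun j => ?_
      exact (haI i _ inf_le_left _).trans (haI i' _ inf_le_right _).symm)
  refine ⟨a, fun m U x hx => ?_⟩
  obtain ⟨V, W, n, e, hxV, hVU, hVW, he⟩ := exists_affine_frame hE hx
  refine ⟨V, hVU, hxV, cong_of_pair he _ V hVW fun j => ?_⟩
  let i : I := ⟨V, W, n, e, hVW, he⟩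
  set d := res (RefHull.dual E) hVW (coord he j)
  have h1 : pair (res E (le_top : V.1 ≤ ⊤) a) d = φ.app V.1 d := by
    rw [show res E (le_top : V.1 ≤ ⊤) a = aI i from ha i]
    conv_lhs => rw [← res_self E le_rfl (aI i)]
    exact haI i V.1 le_rfl d
  have h2 : (ClSub.toSubscheme (J ^ (m + 1))).app V.1 (φ.app V.1 d) =
      (ClSub.toSubscheme (J ^ (m + 1))).app V.1 (pair (t m V) d) :=
    (congrArg (fun g : RefHull.dual E ⟶ _ => g.app V.1 d) (hφ m)).trans (hy m V d)
  rw [← sub_eq_zero, ← map_sub, toSub_eq_zero_iff] at h2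
  have h3 := pair_mem _ V (hres m U V hVU) d
  rw [pair_sub_left] at h3 ⊢
  rw [h1]
  convert sub_mem h2 h3 using 1
  ring

end Groth.Agent.LefFEt
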