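import Groth.Prelude.Def_Lef
import Groth.Agent.CohQC.QuasiAffine
import Groth.Agent.LefConn.Basic
import Groth.Agent.DQCoh.Pseudo

/-!
The Lefschetz bijectivity for the structure sheaf gives it for all quasi-coherent modules on quasi-affine schemes.
-/

universe u

open CategoryTheory CategoryTheory.Limits AlgebraicGeometry TopologicalSpace Opposite

set_option autoImplicit false
set_option backward.isDefEq.respectTransparency false
set_option backward.isDefEq.respectTransparency.types false
set_option linter.style.haveILetI false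

noncomputable section

namespace Groth.Agent.LefFEt

open Groth.Agent.QC

variable {X : Scheme.{u}} [X.IsQuasiAffine] [QuasiSeparatedSpace X]

/-- Morphisms out of a quasi-coherent module vanish if they vanish on global sections. -/
lemma eq_zero_of_top {M N : X.Modules} (hM : Coh.IsQCoh M) (φ : M ⟶ N)
    (h : ∀ s : Γ(M, ⊤), φ.app ⊤ s = 0) : φ = 0 := by
  haveI : M.IsQuasicoherent := hM
  haveI : CompactSpace X := inferInstance
  apply Scheme.Modules.hom_ext
  intro O
  ext t
  refine section_eq_of_locally (M := N) fun x hx => ?_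
  obtain ⟨_, ⟨_, ⟨r, hr, rfl⟩, rfl⟩, hxr, hle⟩ :=
    (Scheme.IsQuasiAffine.isBasis_basicOpen X).exists_subset_of_mem_open (show x ∈ (O : Set X) from hx) O.2
  refine ⟨X.basicOpen r, hle, hxr, ?_⟩
  obtain ⟨n, s, hs⟩ := QC.exists_pow_smul_extends_of_isCompact (M := M) (W := ⊤) (by simpa using isCompact_univ)
    (by simpa using isQuasiSeparated_univ) r (res M hle t)
  have h0 : (resO X (X.basicOpen_le r) r ^ n) • φ.app (X.basicOpen r) (res M hle t) = 0 := by
    rw [← Scheme.Modules.Hom.app_smul, ← hs, ← app_res, h, map_zero]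
  rw [app_res]
  show φ.app _ (res M hle t) = res N hle 0
  rw [map_zero]
  have hu : IsUnit (resO X (X.basicOpen_le r) r ^ n : Γ(X, X.basicOpen r)) :=
    (RingedSpace.isUnit_res_basicOpen X.toRingedSpace r).pow n
  exact hu.smul_eq_zero.mp h0

/-- The bijectivity for the structure sheaf gives it for every quasi-coherent module. -/
theorem homToFormal_of_unit (J : X.IdealSheafData) (hO : Lef.HomToFormalBijective J (Coh.structureModule X))
    (D : X.Modules) (hD : Coh.IsQCoh D) : Lef.HomToFormalBijective J D := by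
  haveI : D.IsQuasicoherent := hD
  have key : ∀ {M : X.Modules}, Coh.IsQCoh M → ∀ (φ ψ : M ⟶ Coh.structureModule X),
      (∀ n, φ ≫ ClSub.toSubscheme (J ^ (n + 1)) = ψ ≫ ClSub.toSubscheme (J ^ (n + 1))) → φ = ψ := by
    intro M hM φ ψ hφψ
    rw [← sub_eq_zero]
    refine eq_zero_of_top hM _ fun s => ?_
    have h1 := hO.1 (CohQC.secHom s ≫ φ) (CohQC.secHom s ≫ ψ) fun n => by
      rw [Category.assoc, Category.assoc, hφψ]
    have h2 := congrArg LefConn.ev h1
    have e : ∀ χ : M ⟶ Coh.structureModule X, LefConn.ev (CohQC.secHom s ≫ χ) = χ.app ⊤ s := fun χ =>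
      congrArg (χ.app ⊤) (LefConn.ev_secHom s)
    rw [e, e] at h2
    show (φ - ψ).app ⊤ s = 0
    rw [Scheme.Modules.Hom.sub_app]
    exact sub_eq_zero.mpr h2
  refine ⟨key hD, fun y hy => ?_⟩
  let G : X.Modules := ∐ fun _ : Γ(D, ⊤) => Coh.structureModule X
  let p : G ⟶ D := Sigma.desc fun s => CohQC.secHom s
  haveI : Epi p := Preadditive.epi_of_cancel_zero _ fun {N} g hg => eq_zero_of_top hD g fun s => by
    have : CohQC.secHom s ≫ g = 0 := by
      rw [← Sigma.ι_desc (fun s => CohQC.secHom s) s, Category.assoc]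
      exact (congrArg (Sigma.ι (fun _ : Γ(D, ⊤) => Coh.structureModule X) s ≫ ·) hg).trans comp_zero
    rw [← LefConn.ev_secHom s]
    exact congrArg LefConn.ev this
  choose ψ hψ using fun s : Γ(D, ⊤) => hO.2 (fun n => CohQC.secHom s ≫ y n) fun n => by
    rw [Category.assoc, hy]
  let ψ' : G ⟶ Coh.structureModule X := Sigma.desc ψ
  have hψ' : ∀ n, ψ' ≫ ClSub.toSubscheme (J ^ (n + 1)) = p ≫ y n := fun n => Sigma.hom_ext _ _ fun s => by
    rw [Sigma.ι_desc_assoc, Sigma.ι_desc_assoc, hψ]
  have hG : Coh.IsQCoh G := QC.isQCoh_colimit _ fun _ => QC.isQCoh_unit X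
  have hk : kernel.ι p ≫ ψ' = 0 := key (QC.isQCoh_kernel hG hD p) _ _ fun n => by
    rw [Category.assoc, hψ', kernel.condition_assoc, zero_comp, zero_comp]
  refine ⟨(Abelian.epiIsCokernelOfKernel _ (kernelIsKernel p)).desc (CokernelCofork.ofπ ψ' hk), fun n => ?_⟩
  rw [← cancel_epi p, ← Category.assoc, ← hψ' n]
  congr 1
  exact (Abelian.epiIsCokernelOfKernel _ (kernelIsKernel p)).fac (CokernelCofork.ofπ ψ' hk) WalkingParallelPair.one

end Groth.Agent.LefFEt
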