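import Groth.Agent.LefFEt.Pair
import Groth.Agent.FittLib.Comap
import Groth.Agent.ResDesc.Main
import Groth.Agent.ThickSys.Sheaf
import Groth.Agent.Purity.CompFF

/-!
Restriction of finite étale covers to a closed subscheme under the Lefschetz bijectivity.
-/

universe u

open CategoryTheory CategoryTheory.Limits AlgebraicGeometry TopologicalSpace Opposite

set_option autoImplicit false
set_option backward.isDefEq.respectTransparency false
set_option backward.isDefEq.respectTransparency.types false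
set_option linter.style.haveILetI false

noncomputable section

namespace Groth.Agent.LefFEt

open Groth.Agent.QC

variable {X Z : Scheme.{u}}

lemma app_of_comp {A B : Scheme.{u}} {f : A ⟶ B} {g : B ⟶ Z} {h : A ⟶ Z} (e : f ≫ g = h) (U : Z.Opens)
    (b : Γ(Z, U)) (s : Γ(B, ⊤)) (hb : g.app U b = resO B (le_top : g ⁻¹ᵁ U ≤ ⊤) s) :
    h.app U b = resO A (le_top : h ⁻¹ᵁ U ≤ ⊤) (f.appTop s) := by
  subst e
  rw [Scheme.Hom.comp_app, ConcreteCategory.comp_apply, hb]
  exact (LefConn.resO_app f s).symm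

lemma resO_app' {A : Scheme.{u}} (f : A ⟶ Z) {U V : Z.Opens} (h : V ≤ U) (a : Γ(Z, U)) :
    resO A (f.preimage_mono h) (f.app U a) = f.app V (resO Z h a) :=
  (congr($(f.naturality (homOfLE h).op) a)).symm

/-- The inclusion of successive thickenings. -/
def incl (K : Z.IdealSheafData) (m : ℕ) : (K ^ (m + 1)).subscheme ⟶ (K ^ (m + 1 + 1)).subscheme :=
  Scheme.IdealSheafData.inclusion (Lef.pow_succ_le K m)

lemma incl_ι (K : Z.IdealSheafData) (m : ℕ) :
    incl K m ≫ (K ^ (m + 1 + 1)).subschemeι = (K ^ (m + 1)).subschemeι :=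
  Scheme.IdealSheafData.inclusion_subschemeι (Lef.pow_succ_le K m)

variable (π : Z ⟶ X) (J : X.IdealSheafData)

/-- The direct image of the structure sheaf. -/
abbrev alg : X.Modules := (Scheme.Modules.pushforward π).obj (Coh.structureModule Z)

lemma cong_iff [IsAffineHom π] (m : ℕ) (U : X.affineOpens) (a : Γ(alg π, U.1)) :
    Cong (J ^ (m + 1)) U a ↔
      ((J.comap π) ^ (m + 1)).subschemeι.app (π ⁻¹ᵁ U.1) (show Γ(Z, π ⁻¹ᵁ U.1) from a) = 0 := by
  have hV : IsAffineOpen (π ⁻¹ᵁ U.1) := U.2.preimage π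
  have hK : ((J.comap π) ^ (m + 1)).ideal ⟨π ⁻¹ᵁ U.1, hV⟩ =
      ((J ^ (m + 1)).ideal U).map (π.app U.1).hom := by
    rw [← ThickSys.comap_pow, FittLib.comap_ideal π _ U.2 hV le_rfl, Scheme.Hom.app_eq_appLE]
  rw [← RingHom.mem_ker, Scheme.IdealSheafData.ker_subschemeι_app ((J.comap π) ^ (m + 1)) ⟨π ⁻¹ᵁ U.1, hV⟩, hK]
  constructor
  · intro h
    refine Submodule.smul_induction_on h (fun r hr z _ => ?_) (fun y z hy hz => add_mem hy hz)
    exact Ideal.mul_mem_right (show Γ(Z, π ⁻¹ᵁ U.1) from z) _ (Ideal.mem_map_of_mem _ hr)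
  · intro h
    obtain ⟨k, c, g, hg⟩ := Submodule.mem_span_set'.mp h
    rw [show a = ∑ i : Fin k, c i * (g i : Γ(Z, π ⁻¹ᵁ U.1)) from hg.symm]
    refine Submodule.sum_mem _ fun i _ => ?_
    obtain ⟨r, hr, hrg⟩ := (g i).2
    rw [← hrg, mul_comm]
    exact Submodule.smul_mem_smul (M := Γ(alg π, U.1)) hr
      (Submodule.mem_top (x := (show Γ(alg π, U.1) from c i)))

variable (hX : ∀ D : X.Modules, FlatMod.IsFinLocFree D → Lef.HomToFormalBijective J D)
  [IsFinite π] [Flat π] [LocallyOfFinitePresentation π]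

include hX in
theorem functions_injective (a b : Γ(Z, ⊤))
    (h : ∀ m, ((J.comap π) ^ (m + 1)).subschemeι.appTop a = ((J.comap π) ^ (m + 1)).subschemeι.appTop b) :
    a = b := by
  have hE : FlatMod.IsFinLocFree (alg π) :=
    ResDesc.isFinLocFree_push π (ResDesc.isFinLocFree_structureModule Z)
  rw [← sub_eq_zero]
  refine sections_injective J hE (hX _ (ResDesc.isFinLocFree_dual hE))
    (show Γ(alg π, ⊤) from a - b) fun m U => (cong_iff π J m U _).mpr ?_
  show ((J.comap π) ^ (m + 1)).subschemeι.app (π ⁻¹ᵁ U.1)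
    (resO Z (le_top : π ⁻¹ᵁ U.1 ≤ ⊤) (a - b)) = 0
  rw [← LefConn.resO_app, map_sub, h m, sub_self, map_zero]

include hX in
/-- Lifting of compatible functions, for an abstract system of closed subschemes. -/
theorem surjective_aux (T : ℕ → Scheme.{u}) (j : ∀ m, T m ⟶ Z) (i : ∀ m, T m ⟶ T (m + 1))
    (hi : ∀ m, i m ≫ j (m + 1) = j m)
    (hcong : ∀ (m : ℕ) (U : X.affineOpens) (a : Γ(Z, π ⁻¹ᵁ U.1)),
      Cong (J ^ (m + 1)) U (show Γ(alg π, U.1) from a) ↔ (j m).app (π ⁻¹ᵁ U.1) a = 0)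
    (hsurj : ∀ (m : ℕ) (U : X.affineOpens), Function.Surjective ((j m).app (π ⁻¹ᵁ U.1)))
    (s : ∀ m, Γ(T m, ⊤)) (hs : ∀ m, (i m).appTop (s (m + 1)) = s m) :
    ∃ a : Γ(Z, ⊤), ∀ m, (j m).appTop a = s m := by
  have hE : FlatMod.IsFinLocFree (alg π) :=
    ResDesc.isFinLocFree_push π (ResDesc.isFinLocFree_structureModule Z)
  have hlift : ∀ (m : ℕ) (U : X.affineOpens), ∃ b : Γ(Z, π ⁻¹ᵁ U.1),
      (j m).app _ b = resO _ (le_top : j m ⁻¹ᵁ (π ⁻¹ᵁ U.1) ≤ ⊤) (s m) := fun m U => hsurj m U _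
  choose t ht using hlift
  obtain ⟨a, ha⟩ := sections_surjective J hE (hX _ (ResDesc.isFinLocFree_dual hE))
    (fun m U => (show Γ(alg π, U.1) from t m U))
    (fun m U V h => by
      have h0 : (j m).app (π ⁻¹ᵁ V.1) (resO Z (π.preimage_mono h) (t m U) - t m V) = 0 := by
        rw [map_sub, ← resO_app', ht, ht, resO_resO, sub_self]
      exact (hcong m V _).mpr h0)
    (fun m U => by
      have h0 : (j m).app (π ⁻¹ᵁ U.1) (t (m + 1) U - t m U) = 0 := by
        rw [map_sub, ht m U, app_of_comp (hi m) _ _ (s (m + 1)) (ht (m + 1) U), hs, sub_self]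
      exact (hcong m U _).mpr h0)
  let a' : Γ(Z, ⊤) := a
  refine ⟨a', fun m => section_eq_of_locally (M := Coh.structureModule (T m)) fun z _ => ?_⟩
  obtain ⟨U, hxU, -⟩ := KosExt.exists_affine_le (O := ⊤) (x := π (j m z)) trivial
  obtain ⟨V, hVU, hxV, hc⟩ := ha m U _ hxU
  refine ⟨j m ⁻¹ᵁ (π ⁻¹ᵁ V.1), le_top, hxV, ?_⟩
  have h0 : (j m).app _ (resO Z (le_top : π ⁻¹ᵁ V.1 ≤ ⊤) a' -
      resO Z (π.preimage_mono hVU) (t m U)) = 0 := (hcong m V _).mp hc
  rw [map_sub, ← LefConn.resO_app, ← resO_app', ht, resO_resO, sub_eq_zero] at h0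
  exact h0

include hX in
theorem functions_surjective (s : ∀ m, Γ(((J.comap π) ^ (m + 1)).subscheme, ⊤))
    (hs : ∀ m, (incl (J.comap π) m).appTop (s (m + 1)) = s m) :
    ∃ a : Γ(Z, ⊤), ∀ m, ((J.comap π) ^ (m + 1)).subschemeι.appTop a = s m :=
  surjective_aux π J hX (fun m => ((J.comap π) ^ (m + 1)).subscheme)
    (fun m => ((J.comap π) ^ (m + 1)).subschemeι)
    (fun m => incl (J.comap π) m)
    (fun m => incl_ι (J.comap π) m)
    (fun m U a => cong_iff π J m U a)
    (fun m U => Scheme.IdealSheafData.subschemeι_app_surjective ((J.comap π) ^ (m + 1))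
      ⟨π ⁻¹ᵁ U.1, U.2.preimage π⟩) s hs

omit [IsFinite π] [Flat π] [LocallyOfFinitePresentation π] in
/-- A function equal to `1` on `V` and `0` on a complementary open has non-vanishing locus `V`. -/
lemma basicOpen_eq {V W : Z.Opens} (hc : (V : Set Z) ∪ W = Set.univ)
    {e : Γ(Z, ⊤)} (h1 : resO Z (le_top : V ≤ ⊤) e = 1) (h0 : resO Z (le_top : W ≤ ⊤) e = 0) :
    Z.basicOpen e = V := by
  have hV : V ⊓ Z.basicOpen e = V := by
    rw [← Scheme.basicOpen_res Z e (homOfLE (le_top : V ≤ ⊤)).op]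
    exact (congrArg Z.basicOpen h1).trans (Z.basicOpen_of_isUnit isUnit_one)
  have hW : W ⊓ Z.basicOpen e = ⊥ := by
    rw [← Scheme.basicOpen_res Z e (homOfLE (le_top : W ≤ ⊤)).op]
    exact (congrArg Z.basicOpen h0).trans (Z.basicOpen_zero _)
  refine le_antisymm (fun x hx => ?_) (inf_eq_left.mp hV)
  rcases (hc.symm ▸ Set.mem_univ x : x ∈ (V : Set Z) ∪ W) with h | h
  · exact h
  · exact absurd (show x ∈ (⊥ : Z.Opens) from hW ▸ ⟨h, hx⟩) (by simp)

omit [IsFinite π] [Flat π] [LocallyOfFinitePresentation π] in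
/-- Clopen subsets of a common closed subspace lift uniquely along bijectivity on functions. -/
theorem existsUnique_clopen_of_lift {S : Type*} [TopologicalSpace S] (g : S → Z)
    (T : ℕ → Scheme.{u}) (j : ∀ n, T n ⟶ Z) (t : ∀ n, T n ⟶ T (n + 1)) (homeo : ∀ n, (T n) ≃ₜ S)
    (hpt : ∀ n z, homeo (n + 1) (t n z) = homeo n z) (hg : ∀ n z, g (homeo n z) = j n z)
    (inj : ∀ a b : Γ(Z, ⊤), (∀ n, (j n).appTop a = (j n).appTop b) → a = b)
    (surj : ∀ s : ∀ n, Γ(T n, ⊤), (∀ n, (t n).appTop (s (n + 1)) = s n) →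
      ∃ a : Γ(Z, ⊤), ∀ n, (j n).appTop a = s n)
    (C : Set S) (hC : IsClopen C) : ∃! W : Set Z, IsClopen W ∧ g ⁻¹' W = C := by
  let V : ∀ n, (T n).Opens := fun n => ⟨homeo n ⁻¹' C, hC.2.preimage (homeo n).continuous⟩
  let W : ∀ n, (T n).Opens := fun n => ⟨homeo n ⁻¹' Cᶜ, hC.1.1.preimage (homeo n).continuous⟩
  have hd : ∀ n, Disjoint (V n) (W n) := fun n => disjoint_iff.mpr (Opens.ext (by simp [V, W]))
  have hc : ∀ n, ((V n : Set (T n)) ∪ W n) = Set.univ := fun n => by simp [V, W]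
  choose e he1 he2 using fun n => LefConn.exists_idem (hd n) (hc n)
  obtain ⟨a, ha⟩ := surj e fun n => by
    have eV : t n ⁻¹ᵁ V (n + 1) = V n := Opens.ext (Set.ext fun z => by
      show homeo (n + 1) (t n z) ∈ C ↔ homeo n z ∈ C
      rw [hpt])
    have eW : t n ⁻¹ᵁ W (n + 1) = W n := Opens.ext (Set.ext fun z => by
      show homeo (n + 1) (t n z) ∈ Cᶜ ↔ homeo n z ∈ Cᶜ
      rw [hpt])
    exact LefConn.app_idem (t n) eV eW (hc n) (he1 (n + 1)) (he2 (n + 1)) (he1 n) (he2 n)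
  have haid : a * a = a := inj _ _ fun n => by
    rw [map_mul, ha]
    exact LefConn.ext_two (hc n) (by rw [map_mul, he1, mul_one]) (by rw [map_mul, he2, mul_zero])
  have h2 : a * (1 - a) = 0 := by rw [mul_sub, mul_one, haid, sub_self]
  have hcl : IsClopen (Z.basicOpen a : Set Z) := by
    refine ⟨⟨?_⟩, (Z.basicOpen a).2⟩
    have : (Z.basicOpen a : Set Z)ᶜ = Z.basicOpen (1 - a) := by
      ext x
      simp only [Set.mem_compl_iff, SetLike.mem_coe]
      constructor
      · intro hx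
        rw [Scheme.mem_basicOpen_top] at hx ⊢
        refine (IsLocalRing.isUnit_or_isUnit_of_add_one ?_).resolve_left hx
        rw [map_sub, map_one]; ring
      · intro hx hx'
        have : x ∈ Z.basicOpen (a * (1 - a)) := by rw [Scheme.basicOpen_mul]; exact ⟨hx', hx⟩
        rw [h2, Scheme.basicOpen_zero] at this
        exact this
    rw [this]
    exact (Z.basicOpen (1 - a)).2
  have hpre : g ⁻¹' (Z.basicOpen a : Set Z) = C := by
    ext x
    have h1 : (j 0) ⁻¹ᵁ Z.basicOpen a = V 0 := by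
      rw [Scheme.preimage_basicOpen, ← basicOpen_eq (hc 0) (he1 0) (he2 0), ← ha 0]
      rfl
    have h2 := congrArg (fun O : (T 0).Opens => (homeo 0).symm x ∈ O) h1
    obtain ⟨z, rfl⟩ := (homeo 0).surjective x
    rw [Homeomorph.symm_apply_apply] at h2
    show g (homeo 0 z) ∈ Z.basicOpen a ↔ _
    rw [hg]
    exact Iff.of_eq h2
  refine ⟨_, ⟨hcl, hpre⟩, ?_⟩
  rintro W' ⟨hW', hWC⟩
  let V' : Z.Opens := ⟨W', hW'.2⟩
  let W'' : Z.Opens := ⟨W'ᶜ, hW'.1.1⟩
  have hc' : (V' : Set Z) ∪ W'' = Set.univ := by simp [V', W'']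
  obtain ⟨a', ha1, ha2⟩ := LefConn.exists_idem (V := V') (W := W'')
    (disjoint_iff.mpr (Opens.ext (by simp [V', W'']))) hc'
  have : a' = a := inj _ _ fun n => by
    rw [ha]
    refine LefConn.app_idem (j n) (Opens.ext (Set.ext fun z => ?_)) (Opens.ext (Set.ext fun z => ?_))
      (hc n) ha1 ha2 (he1 n) (he2 n)
    · show j n z ∈ W' ↔ homeo n z ∈ C
      rw [← hg, ← hWC]; rfl
    · show j n z ∈ W'ᶜ ↔ homeo n z ∈ Cᶜ
      rw [← hg, ← hWC]; rfl
  exact (congrArg (fun O : Z.Opens => (O : Set Z)) (basicOpen_eq hc' ha1 ha2)).symm.trans (by rw [this])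

omit [IsFinite π] [Flat π] [LocallyOfFinitePresentation π] in
theorem clopen_aux {P : Scheme.{u}} (p : P ⟶ Z) (hp : Topology.IsEmbedding p)
    (T : ℕ → Scheme.{u}) (j : ∀ n, T n ⟶ Z) (i : ∀ n, T n ⟶ T (n + 1)) (hi : ∀ n, i n ≫ j (n + 1) = j n)
    (hj : ∀ n, Topology.IsEmbedding (j n)) (hr : ∀ n, Set.range (j n) = Set.range p)
    (inj : ∀ a b : Γ(Z, ⊤), (∀ n, (j n).appTop a = (j n).appTop b) → a = b)
    (surj : ∀ s : ∀ n, Γ(T n, ⊤), (∀ n, (i n).appTop (s (n + 1)) = s n) →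
      ∃ a : Γ(Z, ⊤), ∀ n, (j n).appTop a = s n)
    (C : Set P) (hC : IsClopen C) : ∃! W : Set Z, IsClopen W ∧ p ⁻¹' W = C := by
  let homeo : ∀ n, (T n) ≃ₜ P := fun n =>
    ((hj n).toHomeomorph.trans (Homeomorph.setCongr (hr n))).trans hp.toHomeomorph.symm
  have hg : ∀ n z, p (homeo n z) = j n z := fun n z => by
    have h1 : hp.toHomeomorph (homeo n z) = ⟨j n z, (hr n).le ⟨z, rfl⟩⟩ :=
      Homeomorph.apply_symm_apply _ _
    exact congrArg Subtype.val h1
  exact existsUnique_clopen_of_lift (fun x => p x) T j i homeo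
    (fun n z => hp.injective (by
      rw [hg, hg]
      exact congrArg (fun h : T n ⟶ Z => h z) (hi n))) hg inj surj C hC

omit [IsFinite π] [Flat π] [LocallyOfFinitePresentation π] in
include hX in
theorem restrict_full_faithful :
    (FEt.restrict J.subschemeι).Full ∧ (FEt.restrict J.subschemeι).Faithful := by
  refine Purity.restrict_full_faithful_of_clopen _ fun Z π hf he C hC => ?_
  haveI := hf
  haveI := he
  exact clopen_aux (pullback.fst π J.subschemeι) (pullback.fst π J.subschemeι).isEmbedding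
    (fun n => ((J.comap π) ^ (n + 1)).subscheme) (fun n => ((J.comap π) ^ (n + 1)).subschemeι)
    (fun n => incl (J.comap π) n)
    (fun n => incl_ι (J.comap π) n)
    (fun n => ((J.comap π) ^ (n + 1)).subschemeι.isEmbedding)
    (fun n => by
      rw [Scheme.IdealSheafData.range_subschemeι, Scheme.IdealSheafData.support_pow_succ,
        Scheme.IdealSheafData.support_comap, TopologicalSpace.Closeds.coe_preimage,
        Scheme.Pullback.range_fst, Scheme.IdealSheafData.range_subschemeι])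
    (functions_injective π J hX) (functions_surjective π J hX) C hC

end Groth.Agent.LefFEt
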