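import Groth.Prelude.Def_FSch3
import Groth.Prelude.Def_Lef
import Groth.Agent.QC.PullSect
import Groth.Agent.Conormal.Seq
import Groth.Agent.DerPerf.Local
import Groth.Agent.LefConn.Basic

/-!
Fully faithful completion gives the Lefschetz bijectivity on homomorphisms to the structure sheaf.
-/

universe u

open CategoryTheory CategoryTheory.Limits AlgebraicGeometry TopologicalSpace Opposite

set_option autoImplicit false
set_option backward.isDefEq.respectTransparency false
set_option backward.isDefEq.respectTransparency.types false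
set_option linter.style.haveILetI false

noncomputable section

namespace Groth.Agent.LefFEt

variable {T T' X : Scheme.{u}} {D : X.Modules}

lemma pullUnit_pullSect (f : T ⟶ X) (W : X.Opens) (r : Γ(Coh.structureModule X, W)) :
    (DerPerf.pullUnitIso f).hom.app (f ⁻¹ᵁ W) (OmegaSh.pullSect f (Coh.structureModule X) W r) =
      (ClSub.unitToPush f).app W r := by
  have h : (Scheme.Modules.pullbackPushforwardAdjunction f).unit.app (Coh.structureModule X) ≫
      (Scheme.Modules.pushforward f).map (DerPerf.pullUnitIso f).hom =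
      SheafOfModules.unitToPushforwardObjUnit f.toRingCatSheafHom :=
    ((Scheme.Modules.pullbackPushforwardAdjunction f).homEquiv_unit _ _ _).symm.trans
      (Equiv.apply_symm_apply _ _)
  exact congrArg (fun t : Coh.structureModule X ⟶ (Scheme.Modules.pushforward f).obj (Coh.structureModule T) =>
    (Scheme.Modules.Hom.app t W).hom r) h

/-- The map out of the inverse image attached to a map to a direct image. -/
abbrev flat (f : T ⟶ X) (y : D ⟶ (Scheme.Modules.pushforward f).obj (Coh.structureModule T)) :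
    (Scheme.Modules.pullback f).obj D ⟶ Coh.structureModule T :=
  ((Scheme.Modules.pullbackPushforwardAdjunction f).homEquiv D (Coh.structureModule T)).symm y

lemma flat_pullSect (f : T ⟶ X) (y : D ⟶ (Scheme.Modules.pushforward f).obj (Coh.structureModule T))
    (W : X.Opens) (s : Γ(D, W)) :
    (flat f y).app (f ⁻¹ᵁ W) (OmegaSh.pullSect f D W s) = y.app W s := by
  have h : (Scheme.Modules.pullbackPushforwardAdjunction f).unit.app D ≫
      (Scheme.Modules.pushforward f).map (flat f y) = y :=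
    ((Scheme.Modules.pullbackPushforwardAdjunction f).homEquiv_unit _ _ _).symm.trans
      (Equiv.apply_symm_apply _ _)
  exact congrArg (fun t : D ⟶ (Scheme.Modules.pushforward f).obj (Coh.structureModule T) =>
    (Scheme.Modules.Hom.app t W).hom s) h

/-- Morphisms out of a twofold inverse image are determined by pulled back sections. -/
lemma pullback₂_hom_ext (i : T ⟶ T') (g : T' ⟶ X) {N : T.Modules}
    (A B : (Scheme.Modules.pullback i).obj ((Scheme.Modules.pullback g).obj D) ⟶ N)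
    (h : ∀ U s, A.app (i ⁻¹ᵁ (g ⁻¹ᵁ U)) (OmegaSh.pullSect i _ (g ⁻¹ᵁ U) (OmegaSh.pullSect g D U s)) =
      B.app (i ⁻¹ᵁ (g ⁻¹ᵁ U)) (OmegaSh.pullSect i _ (g ⁻¹ᵁ U) (OmegaSh.pullSect g D U s))) : A = B := by
  refine ((Scheme.Modules.pullbackPushforwardAdjunction i).homEquiv _ N).injective ?_
  refine Conormal.pullback_hom_ext g _ _ fun U s => ?_
  rw [Adjunction.homEquiv_unit, Adjunction.homEquiv_unit]
  exact h U s

lemma pullUnit_comp (i : T ⟶ T') (g : T' ⟶ X) :
    (Scheme.Modules.pullbackComp i g).hom.app (Coh.structureModule X) ≫ (DerPerf.pullUnitIso (i ≫ g)).hom =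
      (Scheme.Modules.pullback i).map (DerPerf.pullUnitIso g).hom ≫ (DerPerf.pullUnitIso i).hom := by
  refine pullback₂_hom_ext i g _ _ fun U r => ?_
  refine (congrArg (fun z => (DerPerf.pullUnitIso (i ≫ g)).hom.app (i ⁻¹ᵁ (g ⁻¹ᵁ U)) z)
    (QC.pullbackComp_hom_pullSect i g (Coh.structureModule X) U r)).trans ?_
  refine (pullUnit_pullSect (i ≫ g) U r).trans ?_
  refine Eq.trans ?_ (congrArg (fun z => (DerPerf.pullUnitIso i).hom.app (i ⁻¹ᵁ (g ⁻¹ᵁ U)) z)
    (QC.app_pullSect i (DerPerf.pullUnitIso g).hom (g ⁻¹ᵁ U)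
      (OmegaSh.pullSect g (Coh.structureModule X) U r))).symm
  refine Eq.trans ?_ (congrArg (fun z => (DerPerf.pullUnitIso i).hom.app (i ⁻¹ᵁ (g ⁻¹ᵁ U))
    (OmegaSh.pullSect i (Coh.structureModule T') (g ⁻¹ᵁ U) z)) (pullUnit_pullSect g U r)).symm
  exact (pullUnit_pullSect i (g ⁻¹ᵁ U) ((ClSub.unitToPush g).app U r)).symm

lemma flat_comp (i : T ⟶ T') (g : T' ⟶ X)
    (y₁ : D ⟶ (Scheme.Modules.pushforward g).obj (Coh.structureModule T'))
    (y₀ : D ⟶ (Scheme.Modules.pushforward (i ≫ g)).obj (Coh.structureModule T))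
    (hy : y₁ ≫ (Scheme.Modules.pushforward g).map (ClSub.unitToPush i) ≫
      (Scheme.Modules.pushforwardComp i g).hom.app _ = y₀) :
    (Scheme.Modules.pullback i).map (flat g y₁) ≫ (DerPerf.pullUnitIso i).hom =
      (Scheme.Modules.pullbackComp i g).hom.app D ≫ flat (i ≫ g) y₀ := by
  refine pullback₂_hom_ext i g _ _ fun U s => ?_
  refine (congrArg (fun z => (DerPerf.pullUnitIso i).hom.app (i ⁻¹ᵁ (g ⁻¹ᵁ U)) z)
    (QC.app_pullSect i (flat g y₁) (g ⁻¹ᵁ U) (OmegaSh.pullSect g D U s))).trans ?_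
  refine (congrArg (fun z => (DerPerf.pullUnitIso i).hom.app (i ⁻¹ᵁ (g ⁻¹ᵁ U))
    (OmegaSh.pullSect i (Coh.structureModule T') (g ⁻¹ᵁ U) z)) (flat_pullSect g y₁ U s)).trans ?_
  refine (pullUnit_pullSect i (g ⁻¹ᵁ U) (y₁.app U s)).trans ?_
  refine Eq.trans ?_ (congrArg (fun z => (flat (i ≫ g) y₀).app (i ⁻¹ᵁ (g ⁻¹ᵁ U)) z)
    (QC.pullbackComp_hom_pullSect i g D U s)).symm
  refine Eq.trans ?_ (flat_pullSect (i ≫ g) y₀ U s).symm
  subst hy
  rfl

lemma flat_compat (i : T ⟶ T') (g : T' ⟶ X) (f : T ⟶ X) (e : i ≫ g = f)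
    (y₁ : D ⟶ (Scheme.Modules.pushforward g).obj (Coh.structureModule T'))
    (y₀ : D ⟶ (Scheme.Modules.pushforward f).obj (Coh.structureModule T))
    (hy : y₁ ≫ (Scheme.Modules.pushforward g).map (ClSub.unitToPush i) ≫
      (Scheme.Modules.pushforwardComp i g).hom.app _ ≫ (Scheme.Modules.pushforwardCongr e).hom.app _ = y₀) :
    (Scheme.Modules.pullback i).map (flat g y₁ ≫ (DerPerf.pullUnitIso g).inv) ≫
        (Scheme.Modules.pullbackComp i g ≪≫ Scheme.Modules.pullbackCongr e).hom.app (Coh.structureModule X) =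
      (Scheme.Modules.pullbackComp i g ≪≫ Scheme.Modules.pullbackCongr e).hom.app D ≫
        flat f y₀ ≫ (DerPerf.pullUnitIso f).inv := by
  subst e
  have hid : (Scheme.Modules.pullbackComp i g ≪≫ Scheme.Modules.pullbackCongr rfl).hom =
      (Scheme.Modules.pullbackComp i g).hom := by simp [Scheme.Modules.pullbackCongr]
  have hc : (Scheme.Modules.pushforwardCongr (rfl : i ≫ g = i ≫ g)).hom.app (Coh.structureModule T) = 𝟙 _ := by
    apply Scheme.Modules.hom_ext
    intro U
    rw [Scheme.Modules.pushforwardCongr_hom_app_app]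
    exact CategoryTheory.Functor.map_id _ _
  rw [hc, Category.comp_id] at hy
  rw [hid, ← cancel_mono (DerPerf.pullUnitIso (i ≫ g)).hom, Category.assoc, pullUnit_comp, ← Category.assoc,
    ← Functor.map_comp, Category.assoc, Iso.inv_hom_id, Category.comp_id, Category.assoc, Category.assoc,
    Iso.inv_hom_id, Category.comp_id]
  exact flat_comp i g y₁ y₀ hy

lemma map_comp_pullUnit (f : T ⟶ X) (φ : D ⟶ Coh.structureModule X) :
    (Scheme.Modules.pullback f).map φ ≫ (DerPerf.pullUnitIso f).hom = flat f (φ ≫ ClSub.unitToPush f) := by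
  refine Conormal.pullback_hom_ext f _ _ fun U s => ?_
  refine (congrArg (fun z => (DerPerf.pullUnitIso f).hom.app (f ⁻¹ᵁ U) z) (QC.app_pullSect f φ U s)).trans ?_
  exact (pullUnit_pullSect f U (φ.app U s)).trans (flat_pullSect f (φ ≫ ClSub.unitToPush f) U s).symm

set_option maxHeartbeats 400000 in
lemma flat_compat' (i : T ⟶ T') (g : T' ⟶ X) (f : T ⟶ X) (e : i ≫ g = f)
    (t : (Scheme.Modules.pushforward g).obj (Coh.structureModule T') ⟶
      (Scheme.Modules.pushforward f).obj (Coh.structureModule T))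
    (ht : t = (Scheme.Modules.pushforward g).map (ClSub.unitToPush i) ≫
      (Scheme.Modules.pushforwardComp i g).hom.app _ ≫ (Scheme.Modules.pushforwardCongr e).hom.app _)
    (Θ : Scheme.Modules.pullback g ⋙ Scheme.Modules.pullback i ≅ Scheme.Modules.pullback f)
    (hΘ : Θ = Scheme.Modules.pullbackComp i g ≪≫ Scheme.Modules.pullbackCongr e)
    (y₁ : D ⟶ (Scheme.Modules.pushforward g).obj (Coh.structureModule T'))
    (y₀ : D ⟶ (Scheme.Modules.pushforward f).obj (Coh.structureModule T)) (hy : y₁ ≫ t = y₀) :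
    (Scheme.Modules.pullback i).map (flat g y₁ ≫ (DerPerf.pullUnitIso g).inv) ≫
        Θ.hom.app (Coh.structureModule X) = Θ.hom.app D ≫ flat f y₀ ≫ (DerPerf.pullUnitIso f).inv := by
  subst hΘ
  exact flat_compat i g f e y₁ y₀ (by subst ht; exact hy)

/-- The transition map of the quotient modules, between the levels of the completion. -/
def tr (𝓘 : X.IdealSheafData) (n : ℕ) :
    (Scheme.Modules.pushforward (FSch.completionToX X 𝓘 (n + 1))).obj
        (Coh.structureModule ((FSch.completionAlong X 𝓘).X (n + 1))) ⟶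
      (Scheme.Modules.pushforward (FSch.completionToX X 𝓘 n)).obj
        (Coh.structureModule ((FSch.completionAlong X 𝓘).X n)) :=
  (Scheme.Modules.pushforward (FSch.completionToX X 𝓘 (n + 1))).map
      (ClSub.unitToPush ((FSch.completionAlong X 𝓘).ι n)) ≫
    (Scheme.Modules.pushforwardComp ((FSch.completionAlong X 𝓘).ι n) (FSch.completionToX X 𝓘 (n + 1))).hom.app _ ≫
    (Scheme.Modules.pushforwardCongr
      (Scheme.IdealSheafData.inclusion_subschemeι (FSch.pow_succ_le X 𝓘 n))).hom.app _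

lemma quotMap_eq (𝓘 : X.IdealSheafData) (n : ℕ) :
    Lef.quotMap (I := 𝓘 ^ (n + 1 + 1)) (Lef.pow_succ_le 𝓘 n) = tr 𝓘 n := rfl

lemma transIso_eq (𝓘 : X.IdealSheafData) (n : ℕ) : FSch.complTransIso 𝓘 n =
    Scheme.Modules.pullbackComp ((FSch.completionAlong X 𝓘).ι n) (FSch.completionToX X 𝓘 (n + 1)) ≪≫
      Scheme.Modules.pullbackCongr (Scheme.IdealSheafData.inclusion_subschemeι (FSch.pow_succ_le X 𝓘 n)) := rfl

/-- A morphism of completions from compatible morphisms of inverse images. -/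
def complHom (𝓘 : X.IdealSheafData) {D G : X.Modules}
    (f : ∀ n, (Scheme.Modules.pullback (FSch.completionToX X 𝓘 n)).obj D ⟶
      (Scheme.Modules.pullback (FSch.completionToX X 𝓘 n)).obj G)
    (hf : ∀ n, (Scheme.Modules.pullback ((FSch.completionAlong X 𝓘).ι n)).map (f (n + 1)) ≫
        (FSch.complTransIso 𝓘 n).hom.app G = (FSch.complTransIso 𝓘 n).hom.app D ≫ f n) :
    FSch.complMod 𝓘 D ⟶ FSch.complMod 𝓘 G :=
  ⟨f, fun n => by
    rw [FSch.complMod_e, FSch.complMod_e, Iso.app_hom, Iso.app_hom]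
    exact hf n⟩

lemma completion_compat (𝓘 : X.IdealSheafData) (n : ℕ)
    (y₁ : D ⟶ (Scheme.Modules.pushforward (FSch.completionToX X 𝓘 (n + 1))).obj
      (Coh.structureModule ((FSch.completionAlong X 𝓘).X (n + 1))))
    (y₀ : D ⟶ (Scheme.Modules.pushforward (FSch.completionToX X 𝓘 n)).obj
      (Coh.structureModule ((FSch.completionAlong X 𝓘).X n)))
    (hy : y₁ ≫ tr 𝓘 n = y₀) :
    (Scheme.Modules.pullback ((FSch.completionAlong X 𝓘).ι n)).map
          (flat (FSch.completionToX X 𝓘 (n + 1)) y₁ ≫ (DerPerf.pullUnitIso (FSch.completionToX X 𝓘 (n + 1))).inv) ≫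
        (FSch.complTransIso 𝓘 n).hom.app (Coh.structureModule X) =
      (FSch.complTransIso 𝓘 n).hom.app D ≫
        flat (FSch.completionToX X 𝓘 n) y₀ ≫ (DerPerf.pullUnitIso (FSch.completionToX X 𝓘 n)).inv := by
  have hc := flat_compat' (D := D) ((FSch.completionAlong X 𝓘).ι n) (FSch.completionToX X 𝓘 (n + 1))
    (FSch.completionToX X 𝓘 n) (Scheme.IdealSheafData.inclusion_subschemeι (FSch.pow_succ_le X 𝓘 n))
    (tr 𝓘 n) rfl (FSch.complTransIso 𝓘 n) (transIso_eq 𝓘 n) y₁ y₀ hy
  exact hc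

/-- Fully faithful completion on maps to `O` gives the Lefschetz bijectivity. -/
theorem homToFormal_of_compl (𝓘 : X.IdealSheafData) (D : X.Modules)
    (h : Function.Bijective (fun φ : D ⟶ Coh.structureModule X => FSch.complModMap 𝓘 φ)) :
    Lef.HomToFormalBijective 𝓘 D := by
  refine ⟨fun φ ψ hφψ => h.1 (FSch.ModSys.Hom.ext (funext fun n => ?_)), fun y hy => ?_⟩
  · show (Scheme.Modules.pullback (FSch.completionToX X 𝓘 n)).map φ =
      (Scheme.Modules.pullback (FSch.completionToX X 𝓘 n)).map ψ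
    rw [← cancel_mono (DerPerf.pullUnitIso (FSch.completionToX X 𝓘 n)).hom,
      map_comp_pullUnit, map_comp_pullUnit]
    exact congrArg (flat _) (hφψ n)
  · let z : FSch.complMod 𝓘 D ⟶ FSch.complMod 𝓘 (Coh.structureModule X) :=
      complHom 𝓘 (fun n => flat (FSch.completionToX X 𝓘 n) (y n) ≫
        (DerPerf.pullUnitIso (FSch.completionToX X 𝓘 n)).inv)
        (fun n => completion_compat 𝓘 n (y (n + 1)) (y n) ((congrArg (y (n + 1) ≫ ·) (quotMap_eq 𝓘 n)).symm.trans (hy n)))
    obtain ⟨φ, hφ⟩ := h.2 z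
    refine ⟨φ, fun n => ?_⟩
    have hn := congrArg (fun w : FSch.complMod 𝓘 D ⟶ FSch.complMod 𝓘 (Coh.structureModule X) => w.app n) hφ
    have hn' : (Scheme.Modules.pullback (FSch.completionToX X 𝓘 n)).map φ ≫
        (DerPerf.pullUnitIso (FSch.completionToX X 𝓘 n)).hom = flat (FSch.completionToX X 𝓘 n) (y n) :=
      (congrArg (· ≫ (DerPerf.pullUnitIso (FSch.completionToX X 𝓘 n)).hom) hn).trans
        ((Category.assoc _ _ _).trans ((congrArg _ (Iso.inv_hom_id _)).trans (Category.comp_id _)))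
    rw [map_comp_pullUnit] at hn'
    exact ((Scheme.Modules.pullbackPushforwardAdjunction (FSch.completionToX X 𝓘 n)).homEquiv _ _).symm.injective hn'

end Groth.Agent.LefFEt
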